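import Groth.Agent.Lib.AffGrp19.Basic
import Groth.Agent.Lib.AbRigid.Maximal
import Mathlib.AlgebraicGeometry.ZariskisMainTheorem

/-!
# Criteria for a group scheme over a field to be affine

* `isAffine_of_mono_toAff`: `G` is affine when `G → Spec Γ(G)` is a monomorphism.
* `isAffine_of_injective_points`: over an algebraically closed field, when it is injective on rational points.
* `exists_act_factor`: an action on an affine scheme factors through the affinization.
-/

set_option autoImplicit false
set_option linter.style.haveILetI false
set_option backward.isDefEq.respectTransparency.types false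
universe u

open CategoryTheory Limits MonoidalCategory CartesianMonoidalCategory MonObj AlgebraicGeometry
  TopologicalSpace Opposite

noncomputable section

namespace Groth.Agent.AffGrp19

variable {k : Type u} [Field k] (G : Over (Spec (CommRingCat.of k))) [GrpObj G]
  [LocallyOfFiniteType G.hom] [QuasiCompact G.hom]

omit [GrpObj G] [QuasiCompact G.hom] in
theorem lft_toAff : LocallyOfFiniteType (toAff G).left := by
  haveI : LocallyOfFiniteType ((toAff G).left ≫ (aff G).hom) := by rw [Over.w]; infer_instance
  exact locallyOfFiniteType_of_comp (toAff G).left (aff G).hom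

omit [GrpObj G] [LocallyOfFiniteType G.hom] [QuasiCompact G.hom] in
/-- Rational points of an affine scheme are determined by their images. -/
theorem pts_ext {W : Over (Spec (CommRingCat.of k))} [IsAffine W.left]
    (a b : 𝟙_ (Over (Spec (CommRingCat.of k))) ⟶ W)
    (h : a.left (IsLocalRing.closedPoint k) = b.left (IsLocalRing.closedPoint k)) : a = b := by
  refine Over.OverMorphism.ext (ext_of_isAffine ?_)
  rw [← cancel_mono (Scheme.ΓSpecIso (CommRingCat.of k)).hom]
  ext v
  set A := a.left.appTop ≫ (Scheme.ΓSpecIso (CommRingCat.of k)).hom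
  set B := b.left.appTop ≫ (Scheme.ΓSpecIso (CommRingCat.of k)).hom
  let σ : CommRingCat.of k ⟶ Γ(W.left, ⊤) := (Scheme.ΓSpecIso (CommRingCat.of k)).inv ≫ W.hom.appTop
  have hsec : ∀ c : 𝟙_ (Over (Spec (CommRingCat.of k))) ⟶ W,
      σ ≫ c.left.appTop ≫ (Scheme.ΓSpecIso (CommRingCat.of k)).hom = 𝟙 _ := fun c => by
    simp only [σ, Category.assoc]
    rw [← Scheme.Hom.comp_appTop_assoc, Over.w c]
    show _ ≫ (𝟙 (Spec (CommRingCat.of k)) : _ ⟶ _).appTop ≫ _ = _
    simp
  have hker : ∀ w, A w = 0 ↔ B w = 0 := fun w => by
    have hpt : ∀ c : 𝟙_ (Over (Spec (CommRingCat.of k))) ⟶ W,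
        (c.left.appTop ≫ (Scheme.ΓSpecIso (CommRingCat.of k)).hom) w = 0 ↔
          c.left (IsLocalRing.closedPoint k) ∉ W.left.basicOpen w := fun c => by
      rw [← Scheme.Hom.mem_preimage, Scheme.Hom.preimage_basicOpen_top]
      show _ ↔ IsLocalRing.closedPoint k ∉ (Spec (CommRingCat.of k)).basicOpen (c.left.appTop w)
      rw [basicOpen_eq_of_affine']
      show _ ↔ IsLocalRing.closedPoint k ∉ PrimeSpectrum.basicOpen _
      rw [CommRingCat.comp_apply]
      exact ⟨fun h0 hm => IsLocalRing.notMem_maximalIdeal.mp hm |>.ne_zero h0,
        fun hm => by_contra fun hne => hm (IsLocalRing.notMem_maximalIdeal.mpr (isUnit_iff_ne_zero.mpr hne))⟩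
    rw [hpt a, hpt b, h]
  have hA := ConcreteCategory.congr_hom (hsec a) (A v)
  have hB := ConcreteCategory.congr_hom (hsec b) (A v)
  have h1 : A (v - σ (A v)) = 0 := by rw [map_sub, sub_eq_zero]; exact hA.symm
  have h2 := (hker _).mp h1
  rw [map_sub, sub_eq_zero] at h2
  exact (h2.trans hB).symm

/-- A group whose affinization map is quasi-finite is affine. -/
theorem isAffine_of_locallyQuasiFinite [h : LocallyQuasiFinite (toAff G).left] : IsAffine G.left := by
  haveI := AbRigid.isSeparated_of_grpObj G
  haveI : CompactSpace G.left := QuasiCompact.compactSpace_of_compactSpace G.hom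
  haveI : QuasiSeparated G.hom := inferInstance
  haveI : LocallyOfFiniteType (toAff G).left := lft_toAff G
  haveI : IsSeparated (toAff G).left := by
    haveI : IsSeparated ((toAff G).left ≫ (aff G).hom) := by rw [Over.w]; infer_instance
    exact IsSeparated.of_comp _ (aff G).hom
  haveI : QuasiCompact (toAff G).left := (good_toAff G).qc
  haveI : G.left.IsQuasiAffine := by
    haveI : IsAffine (toAff G).left.normalization := isAffine_of_isAffineHom (toAff G).left.fromNormalization
    haveI : IsImmersion (toAff G).left.toNormalization := inferInstance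
    exact Scheme.IsQuasiAffine.of_isImmersion (toAff G).left.toNormalization
  exact isAffine_of_quasiAffine G

/-- A group whose affinization map is a monomorphism is affine. -/
theorem isAffine_of_mono_toAff [Mono (toAff G)] : IsAffine G.left := by
  haveI : LocallyOfFiniteType (toAff G).left := lft_toAff G
  haveI : Mono (toAff G).left := inferInstance
  haveI : UniversallyInjective (toAff G).left := inferInstance
  haveI : LocallyQuasiFinite (toAff G).left := inferInstance
  exact isAffine_of_locallyQuasiFinite G

/-- Over an algebraically closed field a group whose affinization map is injective on rational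
points is affine. -/
theorem isAffine_of_injective_points [IsAlgClosed k]
    (h : ∀ g g' : 𝟙_ (Over (Spec (CommRingCat.of k))) ⟶ G, g ≫ toAff G = g' ≫ toAff G → g = g') :
    IsAffine G.left := by
  haveI : LocallyOfFiniteType (toAff G).left := lft_toAff G
  haveI : JacobsonSpace G.left := LocallyOfFiniteType.jacobsonSpace G.hom
  have hq : (toAff G).left.quasiFiniteLocus = ⊤ := by
    by_contra hne
    obtain ⟨x, hx, hxc⟩ : ((((toAff G).left.quasiFiniteLocus : Set G.left))ᶜ ∩ closedPoints G.left).Nonempty := by
      refine nonempty_inter_closedPoints ?_ (Opens.isOpen _).isClosed_compl.isLocallyClosed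
      by_contra hemp
      rw [Set.not_nonempty_iff_eq_empty, Set.compl_empty_iff] at hemp
      exact hne (Opens.ext hemp)
    -- rational points at closed points
    have hpt : ∀ y : G.left, IsClosed ({y} : Set G.left) →
        ∃ g : 𝟙_ (Over (Spec (CommRingCat.of k))) ⟶ G, g.left (IsLocalRing.closedPoint k) = y := fun y hy => by
      exact ⟨Over.homMk (pointOfClosedPoint G.hom y hy) (pointOfClosedPoint_comp G.hom y hy),
        pointOfClosedPoint_apply G.hom y hy _⟩
    obtain ⟨g, hg⟩ := hpt x hxc
    set y := (toAff G).left x with hy
    have hyc : IsClosed ({y} : Set (aff G).left) := by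
      have e : ({y} : Set (aff G).left) = Set.range (g ≫ toAff G).left := by
        ext w
        constructor
        · rintro rfl
          exact ⟨IsLocalRing.closedPoint k, by rw [Over.comp_left, Scheme.Hom.comp_apply, hg]⟩
        · rintro ⟨v, rfl⟩
          rw [Subsingleton.elim (α := Spec (CommRingCat.of k)) v (IsLocalRing.closedPoint k),
            Over.comp_left, Scheme.Hom.comp_apply, hg]
          rfl
      rw [e]
      haveI : IsSeparated (aff G).hom := inferInstance
      haveI : IsClosedImmersion (g ≫ toAff G).left :=
        isClosedImmersion_of_comp_eq_id (aff G).hom (g ≫ toAff G).left (Over.w _)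
      exact (g ≫ toAff G).left.isClosedEmbedding.isClosed_range
    have hfib : (toAff G).left ⁻¹' {y} = {x} := by
      refine Set.Subset.antisymm ?_ (Set.singleton_subset_iff.mpr rfl)
      intro x' hx'
      by_contra hne'
      have hlc : IsLocallyClosed ((toAff G).left ⁻¹' {y} \ {x}) :=
        ((hyc.preimage (toAff G).left.continuous).isLocallyClosed).inter
          (IsOpen.isLocallyClosed hxc.isOpen_compl)
      have hne2 : ((toAff G).left ⁻¹' {y} \ {x}).Nonempty := ⟨x', hx', hne'⟩
      obtain ⟨x'', ⟨hx''y, hx''x⟩, hx''c⟩ := nonempty_inter_closedPoints hne2 hlc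
      obtain ⟨g', hg'⟩ := hpt x'' hx''c
      have e : g ≫ toAff G = g' ≫ toAff G := by
        refine pts_ext _ _ ?_
        rw [Over.comp_left, Over.comp_left, Scheme.Hom.comp_apply, Scheme.Hom.comp_apply]
        erw [hg, hg']
        exact hx''y.symm
      refine hx''x ?_
      rw [← hg', ← h g g' e, hg]
      rfl
    refine hx ?_
    show (toAff G).left.QuasiFiniteAt x
    rw [Scheme.Hom.quasiFiniteAt_iff_isOpen_singleton_asFiber]
    haveI : Subsingleton ((toAff G).left.fiber ((toAff G).left x)) := by
      refine ((toAff G).left.fiberHomeo ((toAff G).left x)).toEquiv.subsingleton_congr.mpr ?_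
      rw [← hy, hfib]
      exact Subsingleton.intro fun a b => Subtype.ext (a.2.trans b.2.symm)
    exact isOpen_discrete _
  haveI : LocallyQuasiFinite (toAff G).left := ((toAff G).left.quasiFiniteLocus_eq_top_iff).mp hq
  exact isAffine_of_locallyQuasiFinite G

variable {G}

omit [LocallyOfFiniteType G.hom] in
/-- An action on an affine scheme only depends on the image in the affinization. -/
theorem act_eq_of_toAff_eq [QuasiSeparated G.hom] {X T : Over (Spec (CommRingCat.of k))} [IsAffine X.left]
    (a : AlgGrp.Action G X) {g g' : T ⟶ G} (h : g ≫ toAff G = g' ≫ toAff G) (x : T ⟶ X) :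
    lift g x ≫ a.act = lift g' x ≫ a.act := by
  obtain ⟨r, hr⟩ := ((good_toAff G).whiskerRight X).exists_desc a.act
  rw [← hr, lift_whiskerRight_assoc, lift_whiskerRight_assoc, h]

end Groth.Agent.AffGrp19
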