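import Groth.Agent.Lib.Blanchard19
import Groth.Agent.Lib.AlgGrpBasic19.Basic
import Mathlib.AlgebraicGeometry.QuasiAffine

/-!
# The affinization of a group scheme over a field; quasi-affine groups are affine

* `bijective_app_toSpecΓ`: `τ_* O = O` for `τ : X → Spec Γ(X)`, `X` qcqs.
* `aff`, `toAff`: the affinization, a group object with `toAff` a homomorphism.
* `isAffine_of_quasiAffine`: a quasi-affine group scheme of finite type over a field is affine.
-/

set_option autoImplicit false
set_option linter.style.haveILetI false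
set_option backward.isDefEq.respectTransparency.types false
universe u

open CategoryTheory Limits MonoidalCategory CartesianMonoidalCategory MonObj AlgebraicGeometry
  TopologicalSpace Opposite

noncomputable section

namespace Groth.Agent.AffGrp19

/-- Bijectivity on sections may be tested on a basis. -/
theorem bijective_app_of_isBasis {P T : Scheme.{u}} (q : P ⟶ T) {J : Type*} (B : J → T.Opens)
    (hB : Opens.IsBasis (Set.range B)) (h : ∀ i, Function.Bijective (q.app (B i))) (V : T.Opens) :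
    Function.Bijective (q.app V) := by
  have hnat : ∀ {A A' : T.Opens} (hle : A' ≤ A) (r : Γ(T, A)),
      q.app A' (T.presheaf.map (homOfLE hle).op r) =
        P.presheaf.map (homOfLE (q.preimage_mono hle)).op (q.app A r) := fun hle r => by
    rw [← CommRingCat.comp_apply, ← CommRingCat.comp_apply, Scheme.Hom.naturality]
    rfl
  have hinj : ∀ U : T.Opens, Function.Injective (q.app U) := by
    intro U r r' hr
    have hloc : ∀ x : U, ∃ i, x.1 ∈ B i ∧ B i ≤ U := fun x => by
      obtain ⟨_, ⟨i, rfl⟩, hxi, hiU⟩ := Opens.isBasis_iff_nbhd.mp hB (show x.1 ∈ U from x.2)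
      exact ⟨i, hxi, hiU⟩
    choose i hxi hiU using hloc
    refine T.sheaf.eq_of_locally_eq' (fun x : U => B (i x)) U (fun x => homOfLE (hiU x))
      (fun y hy => Opens.mem_iSup.2 ⟨⟨y, hy⟩, hxi _⟩) r r' fun x => ?_
    refine (h (i x)).1 ?_
    refine (hnat (hiU x) r).trans ?_
    rw [hr]
    exact (hnat (hiU x) r').symm
  refine ⟨hinj V, fun t => ?_⟩
  have hloc : ∀ x : V, ∃ i, x.1 ∈ B i ∧ B i ≤ V := fun x => by
    obtain ⟨_, ⟨i, rfl⟩, hxi, hiU⟩ := Opens.isBasis_iff_nbhd.mp hB (show x.1 ∈ V from x.2)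
    exact ⟨i, hxi, hiU⟩
  choose i hxi hiV using hloc
  choose s hs using fun x : V => (h (i x)).2 (P.presheaf.map (homOfLE (q.preimage_mono (hiV x))).op t)
  have hcov : V ≤ ⨆ x : V, B (i x) := fun y hy => Opens.mem_iSup.2 ⟨⟨y, hy⟩, hxi _⟩
  have hc : TopCat.Presheaf.IsCompatible T.sheaf.1 (fun x : V => B (i x)) s := by
    intro x y
    apply hinj (B (i x) ⊓ B (i y))
    refine (hnat (inf_le_left : B (i x) ⊓ B (i y) ≤ B (i x)) _).trans ?_
    refine Eq.trans ?_ (hnat (inf_le_right : B (i x) ⊓ B (i y) ≤ B (i y)) _).symm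
    rw [hs, hs]
    simp only [← CommRingCat.comp_apply, ← Functor.map_comp]
    rfl
  obtain ⟨r, hr, -⟩ := T.sheaf.existsUnique_gluing' (fun x : V => B (i x)) V
    (fun x => homOfLE (hiV x)) hcov s hc
  refine ⟨r, P.sheaf.eq_of_locally_eq' (fun x => q ⁻¹ᵁ B (i x)) (q ⁻¹ᵁ V)
    (fun x => homOfLE (q.preimage_mono (hiV x))) ?_ _ _ fun x => ?_⟩
  · exact (q.preimage_mono hcov).trans (le_of_eq (q.preimage_iSup _))
  · refine Eq.trans ?_ (hs x)
    refine (hnat (hiV x) r).symm.trans ?_
    exact congrArg _ (hr x)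

/-- `τ_* O = O` for the canonical map of a qcqs scheme. -/
theorem bijective_app_toSpecΓ {X : Scheme.{u}} [CompactSpace X] [QuasiSeparatedSpace X]
    (V : (Spec Γ(X, ⊤)).Opens) : Function.Bijective (X.toSpecΓ.app V) :=
  bijective_app_of_isBasis X.toSpecΓ (fun f : Γ(X, ⊤) => PrimeSpectrum.basicOpen f)
    PrimeSpectrum.isBasis_basic_opens
    (fun f => haveI := isIso_ΓSpec_adjunction_unit_app_basicOpen f
      ConcreteCategory.bijective_of_isIso _) V

variable {k : Type u} [Field k]

/-- The affinization. -/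
abbrev aff (G : Over (Spec (CommRingCat.of k))) : Over (Spec (CommRingCat.of k)) :=
  Over.mk (Spec.map ((Scheme.ΓSpecIso (CommRingCat.of k)).inv ≫ G.hom.appTop))

/-- The morphism to the affinization. -/
def toAff (G : Over (Spec (CommRingCat.of k))) : G ⟶ aff G :=
  Over.homMk G.left.toSpecΓ (by
    show G.left.toSpecΓ ≫ Spec.map _ = G.hom
    rw [Spec.map_comp, ← Scheme.toSpecΓ_naturality_assoc, toSpecΓ_SpecMap_ΓSpecIso_inv, Category.comp_id])

/-- `f_* O = O`, with the topological conditions needed to base change. -/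
structure Good {X Y : Over (Spec (CommRingCat.of k))} (f : X ⟶ Y) : Prop where
  qc : QuasiCompact f.left
  qs : QuasiSeparated f.left
  bij : ∀ V : Y.left.Opens, Function.Bijective (f.left.app V)

variable {X Y Z W : Over (Spec (CommRingCat.of k))}

theorem good_toAff (G : Over (Spec (CommRingCat.of k))) [QuasiCompact G.hom] [QuasiSeparated G.hom] : Good (toAff G) := by
  haveI : CompactSpace G.left := QuasiCompact.compactSpace_of_compactSpace G.hom
  haveI : QuasiSeparatedSpace G.left := quasiSeparatedSpace_of_quasiSeparated G.hom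
  exact ⟨inferInstanceAs (QuasiCompact G.left.toSpecΓ), inferInstanceAs (QuasiSeparated G.left.toSpecΓ),
    bijective_app_toSpecΓ⟩

theorem flat_fst_left (Z Y : Over (Spec (CommRingCat.of k))) : Flat (fst Z Y).left :=
  MorphismProperty.of_isPullback (IsPullback.of_hasPullback Z.hom Y.hom).flip (inferInstance : Flat Y.hom)

theorem Good.whiskerLeft {f : X ⟶ Y} (hf : Good f) (Z : Over (Spec (CommRingCat.of k))) : Good (Z ◁ f) := by
  haveI := hf.qc
  haveI := hf.qs
  haveI := Blanchard19.flat_snd_left Z Y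
  exact ⟨MorphismProperty.of_isPullback (GITQuot.isPullback_whiskerLeft f Z).flip hf.qc,
    MorphismProperty.of_isPullback (GITQuot.isPullback_whiskerLeft f Z).flip hf.qs,
    Blanchard19.bijective_app_of_isPullback (GITQuot.isPullback_whiskerLeft f Z).flip hf.bij⟩

theorem Good.whiskerRight {f : X ⟶ Y} (hf : Good f) (Z : Over (Spec (CommRingCat.of k))) : Good (f ▷ Z) := by
  haveI := hf.qc
  haveI := hf.qs
  haveI := flat_fst_left Y Z
  exact ⟨MorphismProperty.of_isPullback (GITQuot.isPullback_whiskerRight f Z).flip hf.qc,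
    MorphismProperty.of_isPullback (GITQuot.isPullback_whiskerRight f Z).flip hf.qs,
    Blanchard19.bijective_app_of_isPullback (GITQuot.isPullback_whiskerRight f Z).flip hf.bij⟩

theorem Good.comp {f : X ⟶ Y} (hf : Good f) {g : Y ⟶ Z} (hg : Good g) : Good (f ≫ g) := by
  haveI := hf.qc
  haveI := hf.qs
  haveI := hg.qc
  haveI := hg.qs
  refine ⟨inferInstanceAs (QuasiCompact (f.left ≫ g.left)),
    inferInstanceAs (QuasiSeparated (f.left ≫ g.left)), fun V => ?_⟩
  show Function.Bijective ((f.left ≫ g.left).app V)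
  rw [Scheme.Hom.comp_app]
  exact (hf.bij _).comp (hg.bij V)

theorem Good.appTop_iso {f : X ⟶ Y} (hf : Good f) : IsIso f.left.appTop :=
  (ConcreteCategory.isIso_iff_bijective _).mpr (hf.bij ⊤)

theorem Good.cancel {f : X ⟶ Y} (hf : Good f) [IsAffine W.left] {u v : Y ⟶ W} (h : f ≫ u = f ≫ v) :
    u = v := by
  haveI := hf.appTop_iso
  refine Over.OverMorphism.ext (ext_of_isAffine ?_)
  rw [← cancel_mono f.left.appTop, ← Scheme.Hom.comp_appTop, ← Scheme.Hom.comp_appTop,
    ← Over.comp_left, ← Over.comp_left, h]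

theorem Good.exists_desc {f : X ⟶ Y} (hf : Good f) [IsAffine W.left] (g : X ⟶ W) :
    ∃ r : Y ⟶ W, f ≫ r = g := by
  haveI := hf.appTop_iso
  obtain ⟨r, hr⟩ := RigidRel.exists_factor_of_isAffine f.left g.left
  have hrw : r ≫ W.hom = Y.hom := by
    refine ext_of_isAffine ?_
    rw [← cancel_mono f.left.appTop, ← Scheme.Hom.comp_appTop, ← Scheme.Hom.comp_appTop, reassoc_of% hr,
      Over.w, Over.w]
  exact ⟨Over.homMk r hrw, Over.OverMorphism.ext hr⟩

instance (G : Over (Spec (CommRingCat.of k))) : IsAffine (aff G).left := inferInstanceAs (IsAffine (Spec _))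

section Grp

variable (G : Over (Spec (CommRingCat.of k))) [GrpObj G] [QuasiCompact G.hom] [QuasiSeparated G.hom]

theorem good_tensor : Good (toAff G ⊗ₘ toAff G) := by
  rw [MonoidalCategory.tensorHom_def]
  exact ((good_toAff G).whiskerRight G).comp ((good_toAff G).whiskerLeft (aff G))

/-- The multiplication of the affinization. -/
def affMul : aff G ⊗ aff G ⟶ aff G := ((good_tensor G).exists_desc (μ[G] ≫ toAff G)).choose

theorem tensor_affMul : (toAff G ⊗ₘ toAff G) ≫ affMul G = μ[G] ≫ toAff G :=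
  ((good_tensor G).exists_desc (μ[G] ≫ toAff G)).choose_spec

/-- The inverse of the affinization. -/
def affInv : aff G ⟶ aff G := ((good_toAff G).exists_desc (GrpObj.inv ≫ toAff G)).choose

theorem toAff_affInv : toAff G ≫ affInv G = GrpObj.inv ≫ toAff G :=
  ((good_toAff G).exists_desc (GrpObj.inv ≫ toAff G)).choose_spec

/-- The group structure of the affinization. -/
instance grpObjAff : GrpObj (aff G) where
  one := η[G] ≫ toAff G
  mul := affMul G
  one_mul := by
    refine ((good_toAff G).whiskerLeft (𝟙_ _)).cancel ?_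
    rw [whisker_exchange_assoc, comp_whiskerRight, Category.assoc, ← tensorHom_def_assoc, tensor_affMul,
      ← Category.assoc, MonObj.one_mul, leftUnitor_naturality]
  mul_one := by
    refine ((good_toAff G).whiskerRight (𝟙_ _)).cancel ?_
    rw [← whisker_exchange_assoc, MonoidalCategory.whiskerLeft_comp, Category.assoc, ← tensorHom_def'_assoc,
      tensor_affMul, ← Category.assoc, MonObj.mul_one, rightUnitor_naturality]
  mul_assoc := by
    refine Good.cancel (f := (toAff G ⊗ₘ toAff G) ⊗ₘ toAff G) ?_ ?_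
    · rw [MonoidalCategory.tensorHom_def (toAff G ⊗ₘ toAff G)]
      exact ((good_tensor G).whiskerRight G).comp ((good_toAff G).whiskerLeft _)
    have e1 : ((toAff G ⊗ₘ toAff G) ⊗ₘ toAff G) ≫ (affMul G ▷ aff G) =
        (μ[G] ▷ G) ≫ (toAff G ⊗ₘ toAff G) := by
      rw [← tensorHom_id, tensorHom_comp_tensorHom, tensor_affMul, Category.comp_id, ← tensorHom_id,
        tensorHom_comp_tensorHom, Category.id_comp]
    have e2 : ((toAff G ⊗ₘ toAff G) ⊗ₘ toAff G) ≫ (α_ _ _ _).hom ≫ (aff G ◁ affMul G) =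
        (α_ G G G).hom ≫ (G ◁ μ[G]) ≫ (toAff G ⊗ₘ toAff G) := by
      rw [associator_naturality_assoc, ← id_tensorHom, tensorHom_comp_tensorHom, tensor_affMul,
        Category.comp_id, ← id_tensorHom, tensorHom_comp_tensorHom, Category.id_comp]
    rw [reassoc_of% e1, tensor_affMul, MonObj.mul_assoc_assoc, reassoc_of% e2, tensor_affMul]
  inv := affInv G
  left_inv := by
    refine (good_toAff G).cancel ?_
    rw [comp_lift_assoc, Category.comp_id, toAff_affInv, comp_toUnit_assoc, ← lift_map_assoc_left G,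
      Category.assoc, tensor_affMul, ← Category.assoc, GrpObj.left_inv, Category.assoc]
  right_inv := by
    refine (good_toAff G).cancel ?_
    rw [comp_lift_assoc, Category.comp_id, toAff_affInv, comp_toUnit_assoc, ← lift_map_assoc_right G,
      Category.assoc, tensor_affMul, ← Category.assoc, GrpObj.right_inv, Category.assoc]
where
  lift_map_assoc_left (G : Over (Spec (CommRingCat.of k))) [GrpObj G] :
      lift (GrpObj.inv : G ⟶ G) (𝟙 G) ≫ (toAff G ⊗ₘ toAff G) = lift (GrpObj.inv ≫ toAff G) (toAff G) := by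
    rw [lift_map, Category.id_comp]
  lift_map_assoc_right (G : Over (Spec (CommRingCat.of k))) [GrpObj G] :
      lift (𝟙 G) (GrpObj.inv : G ⟶ G) ≫ (toAff G ⊗ₘ toAff G) = lift (toAff G) (GrpObj.inv ≫ toAff G) := by
    rw [lift_map, Category.id_comp]

instance isMonHom_toAff : IsMonHom (toAff G) where
  one_hom := rfl
  mul_hom := (tensor_affMul G).symm

/-- A quasi-affine group scheme over a field is affine. -/
theorem isAffine_of_quasiAffine [G.left.IsQuasiAffine] : IsAffine G.left := by
  haveI hτ : IsOpenImmersion (toAff G).left := inferInstanceAs (IsOpenImmersion G.left.toSpecΓ)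
  suffices hsurj : Surjective G.left.toSpecΓ by
    haveI : Epi G.left.toSpecΓ.base := (TopCat.epi_iff_surjective _).mpr G.left.toSpecΓ.surjective
    haveI : IsIso G.left.toSpecΓ := IsOpenImmersion.isIso _
    exact IsAffine.mk ‹_›
  refine ⟨fun z => ?_⟩
  let Z : Over (Spec (CommRingCat.of k)) := Over.mk ((aff G).left.fromSpecResidueField z ≫ (aff G).hom)
  let zp : Z ⟶ aff G := Over.homMk ((aff G).left.fromSpecResidueField z) rfl
  haveI : Nonempty Z.left := inferInstanceAs (Nonempty (Spec _))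
  -- right translation by the point
  let R : aff G ⊗ Z ⟶ aff G ⊗ Z := lift (fst _ _ * (snd _ _ ≫ zp)) (snd _ _)
  let R' : aff G ⊗ Z ⟶ aff G ⊗ Z := lift (fst _ _ * (snd _ _ ≫ zp)⁻¹) (snd _ _)
  haveI : IsIso R := by
    refine ⟨R', ?_, ?_⟩
    · ext1
      · simp [R, R', MonObj.comp_mul, GrpObj.comp_inv]
      · simp [R, R']
    · ext1
      · simp [R, R', MonObj.comp_mul, GrpObj.comp_inv]
      · simp [R, R']
  haveI : IsIso R.left := inferInstanceAs (IsIso ((Over.forget _).map R))
  haveI : IsOpenImmersion (toAff G ▷ Z).left :=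
    MorphismProperty.of_isPullback (GITQuot.isPullback_whiskerRight (toAff G) Z).flip hτ
  set ψ := (toAff G ▷ Z).left with hψdef
  have hdense : Dense (Set.range ψ) := by
    rw [dense_iff_inter_open]
    intro O hO hne
    by_contra hemp
    rw [Set.not_nonempty_iff_eq_empty] at hemp
    let O' : (aff G ⊗ Z).left.Opens := ⟨O, hO⟩
    have hbot : ψ ⁻¹ᵁ O' = ⊥ := by
      ext w
      simp only [Scheme.Hom.coe_preimage, Set.mem_preimage, Opens.coe_bot, Set.mem_empty_iff_false,
        iff_false]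
      intro hw
      exact (Set.notMem_empty (ψ w)) (hemp ▸ ⟨hw, w, rfl⟩)
    haveI : Subsingleton Γ((G ⊗ Z).left, ψ ⁻¹ᵁ O') := by
      rw [hbot]
      exact CommRingCat.subsingleton_of_isTerminal (G ⊗ Z).left.sheaf.isTerminalOfEmpty
    haveI : Subsingleton Γ((aff G ⊗ Z).left, O') :=
      (((good_toAff G).whiskerRight Z).bij O').1.subsingleton
    obtain ⟨y, hy⟩ := hne
    haveI : Nonempty O'.toScheme := ⟨⟨y, hy⟩⟩
    haveI : Nonempty O' := ⟨⟨y, hy⟩⟩
    exact not_subsingleton Γ((aff G ⊗ Z).left, O') inferInstance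
  obtain ⟨z₀⟩ : Nonempty (G ⊗ Z).left := by
    refine ⟨(lift (toUnit Z ≫ η[G]) (𝟙 Z)).left (Classical.arbitrary _)⟩
  obtain ⟨y, ⟨p, rfl⟩, ⟨q, hq⟩⟩ := hdense.inter_open_nonempty (Set.range (ψ ≫ R.left))
    (IsOpenImmersion.isOpen_range (ψ ≫ R.left)) ⟨_, z₀, rfl⟩
  obtain ⟨w, hw1, hw2⟩ := Scheme.Pullback.exists_preimage_pullback (f := ψ ≫ R.left) (g := ψ) p q hq.symm
  set i := (pullback (ψ ≫ R.left) ψ).fromSpecResidueField w
  let T : Over (Spec (CommRingCat.of k)) := Over.mk (i ≫ pullback.fst _ _ ≫ (G ⊗ Z).hom)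
  let u : T ⟶ G ⊗ Z := Over.homMk (i ≫ pullback.fst _ _) (Category.assoc _ _ _)
  let u' : T ⟶ G ⊗ Z := Over.homMk (i ≫ pullback.snd _ _) (by
    show (i ≫ _) ≫ _ = i ≫ _ ≫ _
    have eψ : ψ ≫ (aff G ⊗ Z).hom = (G ⊗ Z).hom := Over.w (toAff G ▷ Z)
    have eR : R.left ≫ (aff G ⊗ Z).hom = (aff G ⊗ Z).hom := Over.w R
    rw [Category.assoc, ← eψ, ← pullback.condition_assoc]
    simp only [Category.assoc, eR])
  have hu : u ≫ (toAff G ▷ Z) ≫ R = u' ≫ (toAff G ▷ Z) := by
    apply Over.OverMorphism.ext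
    show (i ≫ pullback.fst _ _) ≫ ψ ≫ R.left = (i ≫ pullback.snd _ _) ≫ ψ
    rw [Category.assoc, pullback.condition, Category.assoc]
  have h1 := congrArg (· ≫ fst (aff G) Z) hu
  simp only [R, Category.assoc, lift_fst, MonObj.comp_mul, whiskerRight_fst, whiskerRight_snd_assoc] at h1
  have h2 : (u ≫ snd G Z) ≫ zp = (((u ≫ fst G Z)⁻¹ * (u' ≫ fst G Z))) ≫ toAff G := by
    rw [MonObj.mul_comp, GrpObj.inv_comp, eq_inv_mul_iff_mul_eq]
    simpa only [Category.assoc] using h1
  refine ⟨((u ≫ fst G Z)⁻¹ * (u' ≫ fst G Z)).left (IsLocalRing.closedPoint _), ?_⟩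
  show (toAff G).left _ = z
  rw [← Scheme.Hom.comp_apply, ← Over.comp_left, ← h2, Over.comp_left, Scheme.Hom.comp_apply]
  exact Scheme.fromSpecResidueField_apply _ _

end Grp

end Groth.Agent.AffGrp19
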