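import Groth.Agent.Lib.AffGrp19.Basic

/-!
# Maps from anti-affine schemes to affine ones; anti-affine extensions
-/

set_option autoImplicit false
set_option linter.style.haveILetI false
set_option backward.isDefEq.respectTransparency.types false
universe u

open CategoryTheory Limits MonoidalCategory CartesianMonoidalCategory MonObj AlgebraicGeometry

noncomputable section

namespace Groth.Agent.AffGrp19

variable {k : Type u} [Field k]

/-- The structure map of global functions. -/
abbrev structRing (M : Over (Spec (CommRingCat.of k))) : CommRingCat.of k ⟶ Γ(M.left, ⊤) :=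
  (Scheme.ΓSpecIso (CommRingCat.of k)).inv ≫ M.hom.appTop

/-- A map from a scheme without non-constant functions to an affine one is constant. -/
theorem exists_const {M W : Over (Spec (CommRingCat.of k))} [QuasiCompact M.hom] [QuasiSeparated M.hom]
    [IsAffine W.left] (hM : Function.Bijective (structRing M).hom) (u : M ⟶ W) :
    ∃ w : 𝟙_ (Over (Spec (CommRingCat.of k))) ⟶ W, u = toUnit M ≫ w := by
  obtain ⟨r, rfl⟩ := (good_toAff M).exists_desc u
  haveI : IsIso (structRing M) := (ConcreteCategory.isIso_iff_bijective _).mpr hM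
  haveI : IsIso (aff M).hom := inferInstanceAs (IsIso (Spec.map (structRing M)))
  let i : 𝟙_ (Over (Spec (CommRingCat.of k))) ⟶ aff M :=
    Over.homMk (inv (aff M).hom) (by show inv (aff M).hom ≫ (aff M).hom = 𝟙 _; rw [IsIso.inv_hom_id])
  refine ⟨i ≫ r, ?_⟩
  rw [← Category.assoc]
  congr 1
  refine Over.OverMorphism.ext ?_
  rw [Over.comp_left]
  show (toAff M).left = M.hom ≫ inv (aff M).hom
  rw [IsIso.eq_comp_inv]
  exact Over.w (toAff M)

variable {G₁ G G₂ : Over (Spec (CommRingCat.of k))} [GrpObj G₁] [GrpObj G] [GrpObj G₂]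

/-- An extension of anti-affine groups is anti-affine. -/
theorem surjective_struct_of_extension [LocallyOfFiniteType G₁.hom] [QuasiCompact G₁.hom]
    [LocallyOfFiniteType G.hom] [QuasiCompact G.hom] [LocallyOfFiniteType G₂.hom] [QuasiCompact G₂.hom]
    (i : G₁ ⟶ G) [IsMonHom i] (q : G ⟶ G₂) [IsMonHom q] [Surjective q.left] [Flat q.left]
    (hex : AlgGrp.IsKernel i q) (h₁ : Function.Bijective (structRing G₁).hom)
    (h₂ : Function.Bijective (structRing G₂).hom) : Function.Surjective (structRing G).hom := by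
  haveI : QuasiSeparated G₁.hom := AlgGrpBasic19.quasiSeparatedSpace
  haveI : QuasiSeparated G.hom := AlgGrpBasic19.quasiSeparatedSpace
  haveI : QuasiSeparated G₂.hom := AlgGrpBasic19.quasiSeparatedSpace
  haveI : IsIso (structRing G₁) := (ConcreteCategory.isIso_iff_bijective _).mpr h₁
  haveI : IsIso (aff G₁).hom := inferInstanceAs (IsIso (Spec.map (structRing G₁)))
  -- functions are invariant under the kernel
  have hinv : fst G G₁ ≫ toAff G = lift (fst G G₁) (snd G G₁ ≫ i) ≫ μ[G] ≫ toAff G := by
    set F := lift (fst G G₁) (snd G G₁ ≫ i) ≫ μ[G] ≫ toAff G with hF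
    obtain ⟨r, hr⟩ := ((good_toAff G₁).whiskerLeft G).exists_desc F
    have htriv : ∀ {T : Over (Spec (CommRingCat.of k))} (u v : T ⟶ aff G₁), u = v := fun u v => by
      refine Over.OverMorphism.ext ?_
      rw [← cancel_mono (aff G₁).hom, Over.w, Over.w]
    have h1 : lift (fst G G₁) (toUnit _ ≫ η[G₁]) ≫ F = fst G G₁ ≫ toAff G := by
      rw [hF, comp_lift_assoc, lift_fst, lift_snd_assoc, Category.assoc, IsMonHom.one_hom]
      simp only [← Category.assoc]
      congr 1
      rw [MonObj.one_eq_one, MonObj.comp_one]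
      exact _root_.mul_one _
    rw [← h1, ← hr, ← Category.assoc]
    congr 1
    ext1
    · simp
    · exact htriv _ _
  haveI : QuasiCompact q.left := AlgGrpBasic19.quasiCompact_left q
  obtain ⟨ψ, hψ⟩ := AlgGrpBasic19.exists_desc q (toAff G) fun T g g' hg => by
    have hk : (g⁻¹ * g') ≫ q = toUnit T ≫ η[G₂] := by
      rw [MonObj.mul_comp, GrpObj.inv_comp, hg, inv_mul_cancel, MonObj.one_eq_one, MonObj.comp_one]
    let n := hex.lift (g⁻¹ * g') (toUnit T) hk
    have hn : n ≫ i = g⁻¹ * g' := hex.lift_fst _ _ _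
    have := congrArg (fun F => lift g n ≫ F) hinv
    beta_reduce at this
    rw [lift_fst_assoc, comp_lift_assoc, lift_fst, lift_snd_assoc, hn, ← Category.assoc (lift g _),
      ← Hom.mul_def, mul_inv_cancel_left] at this
    exact this
  obtain ⟨w, rfl⟩ := exists_const h₂ ψ
  rw [← Category.assoc, comp_toUnit] at hψ
  intro s
  have hl : G.left.toSpecΓ = G.hom ≫ w.left := (congrArg CommaMorphism.left hψ).symm
  refine ⟨(Scheme.ΓSpecIso (CommRingCat.of k)).hom (w.left.appTop ((Scheme.ΓSpecIso Γ(G.left, ⊤)).inv s)), ?_⟩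
  show G.hom.appTop ((Scheme.ΓSpecIso (CommRingCat.of k)).inv ((Scheme.ΓSpecIso (CommRingCat.of k)).hom _)) = s
  rw [Iso.hom_inv_id_apply]
  refine (ConcreteCategory.congr_hom (Scheme.Hom.comp_appTop G.hom w.left).symm _).trans ?_
  rw [← hl, Scheme.toSpecΓ_appTop]
  exact Iso.inv_hom_id_apply _ _

end Groth.Agent.AffGrp19
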