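import Groth.Agent.Lib.AffGrp19.Main
import Groth.Agent.Lib.FixLine19
import Mathlib.AlgebraicGeometry.SpreadingOut
import Mathlib.AlgebraicGeometry.FunctionField
import Mathlib.LinearAlgebra.TensorProduct.Basis
import Mathlib.RingTheory.Filtration

/-!
# Thickenings of a point detect morphisms from products

* `thick`, `thickι`: the infinitesimal neighbourhoods of a point.
* `eq_of_thick_nhd`: two maps `T ⊗ X ⟶ Y` agreeing on all thickenings agree over a neighbourhood.
* `eq_of_thick_integral`: and everywhere when `X` is integral.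
-/

set_option autoImplicit false
set_option linter.style.haveILetI false
set_option backward.isDefEq.respectTransparency.types false
universe u

open CategoryTheory Limits MonoidalCategory CartesianMonoidalCategory MonObj AlgebraicGeometry
  TopologicalSpace Opposite TensorProduct

noncomputable section

namespace Groth.Agent.AffGrp19

open Groth.Agent.FixLine19 (sp el spMap spMap_el toSp toSp_el str)

variable {k : Type u} [Field k]

instance isAffine_sp (R : Type u) [CommRing R] [Algebra k R] : IsAffine (sp (k := k) R).left :=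
  inferInstanceAs (IsAffine (Spec _))

/-- An infinitesimal neighbourhood of a point. -/
abbrev thick (X : Over (Spec (CommRingCat.of k))) (x : X.left) (n : ℕ) : Over (Spec (CommRingCat.of k)) :=
  Over.mk ((Spec.map (CommRingCat.ofHom (Ideal.Quotient.mk
    (IsLocalRing.maximalIdeal (X.left.presheaf.stalk x) ^ n))) ≫ X.left.fromSpecStalk x) ≫ X.hom)

/-- Its inclusion. -/
def thickι (X : Over (Spec (CommRingCat.of k))) (x : X.left) (n : ℕ) : thick X x n ⟶ X :=
  Over.homMk (Spec.map (CommRingCat.ofHom (Ideal.Quotient.mk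
    (IsLocalRing.maximalIdeal (X.left.presheaf.stalk x) ^ n))) ≫ X.left.fromSpecStalk x) rfl

theorem thickι_apply (X : Over (Spec (CommRingCat.of k))) (x : X.left) (n : ℕ) (z : (thick X x n).left) :
    (thickι X x n).left z = x := by
  set O := X.left.presheaf.stalk x
  set m := IsLocalRing.maximalIdeal O
  let qm : O ⟶ CommRingCat.of (O ⧸ m ^ n) := CommRingCat.ofHom (Ideal.Quotient.mk (m ^ n))
  show (Spec.map qm ≫ X.left.fromSpecStalk x) z = x
  let q : PrimeSpectrum (O ⧸ m ^ n) := z
  have hq : (Spec.map qm) z = IsLocalRing.closedPoint O := by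
    refine PrimeSpectrum.ext ?_
    show q.asIdeal.comap (Ideal.Quotient.mk (m ^ n)) = m
    refine ((IsLocalRing.maximalIdeal.isMaximal O).eq_of_le (Ideal.comap_ne_top _ q.isPrime.ne_top) ?_).symm
    refine (Ideal.IsPrime.le_of_pow_le (hP := q.isPrime.comap _) (n := n) fun r hr => ?_)
    rw [Ideal.mem_comap, Ideal.Quotient.eq_zero_iff_mem.mpr hr]
    exact zero_mem _
  rw [Scheme.Hom.comp_apply, hq, Scheme.fromSpecStalk_closedPoint]

/-- The structure algebra of the functions on an open. -/
abbrev algOf (T : Over (Spec (CommRingCat.of k))) (V : T.left.Opens) : Algebra k Γ(T.left, V) :=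
  ((Scheme.ΓSpecIso (CommRingCat.of k)).inv ≫ T.hom.appLE ⊤ V le_top).hom.toAlgebra

/-- The inclusion of an affine open as a morphism from an affine scheme. -/
def chart (T : Over (Spec (CommRingCat.of k))) (V : T.left.Opens) (hV : IsAffineOpen V) :
    letI := algOf T V; sp (k := k) Γ(T.left, V) ⟶ T :=
  letI := algOf T V
  Over.homMk hV.fromSpec (by
    show hV.fromSpec ≫ T.hom = Spec.map _
    rw [show CommRingCat.ofHom (algebraMap k Γ(T.left, V)) =
        (Scheme.ΓSpecIso (CommRingCat.of k)).inv ≫ T.hom.appLE ⊤ V le_top from rfl, Spec.map_comp,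
      ← IsAffineOpen.SpecMap_appLE_fromSpec T.hom (isAffineOpen_top _) hV le_top]
    rw [IsAffineOpen.fromSpec_top, Scheme.isoSpec_Spec_inv])

/-- A morphism into an affine open comes from the chart. -/
theorem exists_chart_lift {W T : Over (Spec (CommRingCat.of k))} [IsAffine W.left] (u : W ⟶ T)
    (V : T.left.Opens) (hV : IsAffineOpen V) (hu : ∀ w, u.left w ∈ V) :
    letI := algOf T V
    ∃ (φ : Γ(T.left, V) →+* Γ(W.left, ⊤)) (hφ : φ.comp (algebraMap k Γ(T.left, V)) = str W),
      toSp W φ hφ ≫ chart T V hV = u := by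
  letI := algOf T V
  have hle : (⊤ : W.left.Opens) ≤ u.left ⁻¹ᵁ V := fun w _ => hu w
  refine ⟨(u.left.appLE V ⊤ hle).hom, ?_, ?_⟩
  · refine congrArg CommRingCat.Hom.hom (show (Scheme.ΓSpecIso (CommRingCat.of k)).inv ≫
      T.hom.appLE ⊤ V le_top ≫ u.left.appLE V ⊤ hle = (Scheme.ΓSpecIso (CommRingCat.of k)).inv ≫ W.hom.appTop from ?_)
    rw [Scheme.Hom.appLE_comp_appLE]
    simp only [Over.w u]
    rw [Scheme.Hom.appTop, Scheme.Hom.app_eq_appLE]
    rfl
  · refine Over.OverMorphism.ext ?_
    show (W.left.toSpecΓ ≫ Spec.map (u.left.appLE V ⊤ hle)) ≫ hV.fromSpec = u.left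
    rw [Category.assoc, IsAffineOpen.SpecMap_appLE_fromSpec u.left hV (isAffineOpen_top W.left) hle,
      IsAffineOpen.fromSpec_top, ← Category.assoc, ← Scheme.isoSpec_hom, Iso.hom_inv_id, Category.id_comp]

/-- A product of two affine charts. -/
def chart₂ (T X : Over (Spec (CommRingCat.of k))) (V : T.left.Opens) (hV : IsAffineOpen V)
    (U : X.left.Opens) (hU : IsAffineOpen U) :
    letI := algOf T V; letI := algOf X U
    sp (k := k) (Γ(T.left, V) ⊗[k] Γ(X.left, U)) ⟶ T ⊗ X :=
  letI := algOf T V
  letI := algOf X U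
  CartesianMonoidalCategory.lift (spMap Algebra.TensorProduct.includeLeft ≫ chart T V hV)
    (spMap Algebra.TensorProduct.includeRight ≫ chart X U hU)

/-- Equality over an open of `X` may be tested on the charts. -/
theorem eq_of_charts {T X Y : Over (Spec (CommRingCat.of k))} (α β : T ⊗ X ⟶ Y) (U : X.left.Opens)
    (hU : IsAffineOpen U) (h : ∀ (V : T.left.Opens) (hV : IsAffineOpen V),
      chart₂ T X V hV U hU ≫ α = chart₂ T X V hV U hU ≫ β)
    {T' : Over (Spec (CommRingCat.of k))} (t : T' ⟶ T) (y : T' ⟶ X) (hy : ∀ w, y.left w ∈ U) :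
    lift t y ≫ α = lift t y ≫ β := by
  refine Over.OverMorphism.ext (Scheme.hom_ext_of_forall _ _ fun w => ?_)
  obtain ⟨V, hV, hwV, -⟩ := exists_isAffineOpen_mem_and_subset (X := T.left) (x := t.left w) (U := ⊤) trivial
  obtain ⟨W, hW, hwW, hWV⟩ := exists_isAffineOpen_mem_and_subset (X := T'.left) (x := w)
    (U := t.left ⁻¹ᵁ V) hwV
  refine ⟨W, hwW, ?_⟩
  let W' : Over (Spec (CommRingCat.of k)) := Over.mk (W.ι ≫ T'.hom)
  let iW : W' ⟶ T' := Over.homMk W.ι rfl
  haveI : IsAffine W'.left := hW
  letI := algOf T V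
  letI := algOf X U
  obtain ⟨φ₁, hφ₁, e₁⟩ := exists_chart_lift (iW ≫ t) V hV fun z => hWV z.2
  obtain ⟨φ₂, hφ₂, e₂⟩ := exists_chart_lift (iW ≫ y) U hU fun z => hy _
  letI : Algebra k Γ(W'.left, ⊤) := (str W').toAlgebra
  let a₁ : Γ(T.left, V) →ₐ[k] Γ(W'.left, ⊤) := { φ₁ with commutes' := fun c => RingHom.congr_fun hφ₁ c }
  let a₂ : Γ(X.left, U) →ₐ[k] Γ(W'.left, ⊤) := { φ₂ with commutes' := fun c => RingHom.congr_fun hφ₂ c }
  let φ := Algebra.TensorProduct.lift a₁ a₂ fun _ _ => mul_comm _ _
  have hφ : φ.toRingHom.comp (algebraMap k _) = str W' := φ.comp_algebraMap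
  have key : toSp W' φ.toRingHom hφ ≫ chart₂ T X V hV U hU = iW ≫ lift t y := by
    rw [chart₂, comp_lift, comp_lift, ← e₁, ← e₂]
    congr 1
    · rw [← Category.assoc]
      congr 1
      refine Over.OverMorphism.ext ?_
      show (W'.left.toSpecΓ ≫ Spec.map _) ≫ Spec.map _ = W'.left.toSpecΓ ≫ Spec.map _
      rw [Category.assoc, ← Spec.map_comp]
      congr 2
      ext b
      exact Algebra.TensorProduct.lift_tmul a₁ a₂ (fun _ _ => mul_comm _ _) b 1 |>.trans (by rw [map_one, _root_.mul_one]; rfl)
    · rw [← Category.assoc]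
      congr 1
      refine Over.OverMorphism.ext ?_
      show (W'.left.toSpecΓ ≫ Spec.map _) ≫ Spec.map _ = W'.left.toSpecΓ ≫ Spec.map _
      rw [Category.assoc, ← Spec.map_comp]
      congr 2
      ext b
      exact Algebra.TensorProduct.lift_tmul a₁ a₂ (fun _ _ => mul_comm _ _) 1 b |>.trans (by rw [map_one, _root_.one_mul]; rfl)
  have e := congrArg (toSp W' φ.toRingHom hφ ≫ ·) (h V hV)
  simp only [← Category.assoc, key] at e
  have e' := congrArg CommaMorphism.left e
  simpa only [Over.comp_left, iW, Over.homMk_left, Category.assoc] using e'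

/-- Two maps out of an affine scheme into a separated one agree when they agree on a family which
is jointly injective on functions. -/
theorem eq_of_jointly_injective {P Y : Over (Spec (CommRingCat.of k))} [IsAffine P.left] [IsSeparated Y.hom]
    (α β : P ⟶ Y) {J : Type*} {Q : J → Over (Spec (CommRingCat.of k))} (u : ∀ j, Q j ⟶ P)
    (hinj : ∀ r, (∀ j, (u j).left.appTop r = 0) → r = 0) (h : ∀ j, u j ≫ α = u j ≫ β) : α = β := by
  let l : P.left ⟶ pullback Y.hom Y.hom := pullback.lift α.left β.left (by rw [Over.w, Over.w])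
  let z := pullback.fst l (pullback.diagonal Y.hom)
  haveI : IsClosedImmersion z := MorphismProperty.pullback_fst _ _ inferInstance
  haveI : IsAffine (pullback l (pullback.diagonal Y.hom)) := isAffine_of_isAffineHom z
  have hzα : z ≫ α.left = z ≫ β.left := by
    have hlf : α.left = l ≫ pullback.fst Y.hom Y.hom := (pullback.lift_fst _ _ _).symm
    have hls : β.left = l ≫ pullback.snd Y.hom Y.hom := (pullback.lift_snd _ _ _).symm
    rw [hlf, hls, ← Category.assoc, ← Category.assoc, pullback.condition, Category.assoc, Category.assoc,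
      pullback.diagonal_fst, pullback.diagonal_snd]
  have hfac : ∀ j, ∃ q : (Q j).left ⟶ pullback l (pullback.diagonal Y.hom), q ≫ z = (u j).left := fun j => by
    refine ⟨pullback.lift (u j).left ((u j).left ≫ α.left) ?_, pullback.lift_fst _ _ _⟩
    apply pullback.hom_ext
    · rw [Category.assoc, Category.assoc, pullback.diagonal_fst, Category.comp_id,
        show l ≫ pullback.fst Y.hom Y.hom = α.left from pullback.lift_fst _ _ _]
    · rw [Category.assoc, Category.assoc, pullback.diagonal_snd, Category.comp_id,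
        show l ≫ pullback.snd Y.hom Y.hom = β.left from pullback.lift_snd _ _ _]
      exact (congrArg CommaMorphism.left (h j)).symm
  have hsurj : Function.Surjective z.appTop :=
    (IsClosedImmersion.isAffine_surjective_of_isAffine z).2
  have hbij : Function.Bijective z.appTop := by
    refine ⟨(injective_iff_map_eq_zero _).mpr fun r hr => hinj r fun j => ?_, hsurj⟩
    obtain ⟨q, hq⟩ := hfac j
    rw [← hq, Scheme.Hom.comp_appTop, CommRingCat.comp_apply, hr, map_zero]
  haveI : IsIso z.appTop := (ConcreteCategory.isIso_iff_bijective _).mpr hbij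
  haveI : IsIso z := isIso_of_isAffine_of_isIso_appTop z
  exact Over.OverMorphism.ext ((cancel_epi z).mp hzα)
where
  isIso_of_isAffine_of_isIso_appTop {A B : Scheme.{u}} [IsAffine A] [IsAffine B] (z : A ⟶ B) [IsIso z.appTop] :
      IsIso z := by
    have : z = A.isoSpec.hom ≫ Spec.map z.appTop ≫ B.isoSpec.inv := by
      rw [Scheme.isoSpec_hom, ← Scheme.toSpecΓ_naturality_assoc, ← Scheme.isoSpec_hom, Iso.hom_inv_id,
        Category.comp_id]
    rw [this]; infer_instance

/-- Joint injectivity is preserved by tensoring over a field. -/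
theorem eq_zero_of_map_tmul {B A : Type u} [AddCommGroup B] [Module k B] [AddCommGroup A] [Module k A]
    {J : Type*} {C : J → Type u} [∀ j, AddCommGroup (C j)] [∀ j, Module k (C j)] (c : ∀ j, A →ₗ[k] C j)
    (hc : ∀ a, (∀ j, c j a = 0) → a = 0) (r : B ⊗[k] A) (hr : ∀ j, (c j).lTensor B r = 0) : r = 0 := by
  let b := Module.Free.chooseBasis k B
  apply (TensorProduct.equivFinsuppOfBasisLeft b).injective
  rw [map_zero]
  ext i
  rw [Finsupp.zero_apply]
  refine hc _ fun j => ?_
  have : ∀ s : B ⊗[k] A, c j (TensorProduct.equivFinsuppOfBasisLeft b s i) =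
      TensorProduct.equivFinsuppOfBasisLeft b ((c j).lTensor B s) i := fun s => by
    induction s using TensorProduct.induction_on with
    | zero => simp
    | tmul x a => simp [TensorProduct.equivFinsuppOfBasisLeft_apply_tmul_apply, map_smul]
    | add x y hx hy => simp [map_add, hx, hy]
  rw [this, hr, map_zero, Finsupp.zero_apply]

theorem el_eq_zero {R : Type u} [CommRing R] [Algebra k R] {r : R} (h : el (k := k) r = 0) : r = 0 := by
  have h' := congrArg (Scheme.ΓSpecIso (CommRingCat.of R)).hom h
  rw [map_zero, ← CommRingCat.comp_apply, Iso.inv_hom_id] at h'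
  exact h'

theorem exists_el {R : Type u} [CommRing R] [Algebra k R] (a : Γ((sp (k := k) R).left, ⊤)) :
    ∃ r : R, el (k := k) r = a :=
  ⟨(Scheme.ΓSpecIso (CommRingCat.of R)).hom a, by
    show ((Scheme.ΓSpecIso (CommRingCat.of R)).hom ≫ (Scheme.ΓSpecIso (CommRingCat.of R)).inv) a = a
    rw [Iso.hom_inv_id]; rfl⟩

variable {T X Y : Over (Spec (CommRingCat.of k))} [IsSeparated Y.hom]

/-- Two maps agreeing on the thickenings of `x` agree over an affine neighbourhood `U` of `x` whose
functions inject into the local ring. -/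
theorem eq_of_thick_nhd [IsLocallyNoetherian X.left] (α β : T ⊗ X ⟶ Y) (x : X.left) (U : X.left.Opens)
    (hU : IsAffineOpen U) (hxU : x ∈ U) (hinj : Function.Injective (X.left.presheaf.germ U x hxU))
    (h : ∀ n, (T ◁ thickι X x n) ≫ α = (T ◁ thickι X x n) ≫ β)
    {T' : Over (Spec (CommRingCat.of k))} (t : T' ⟶ T) (y : T' ⟶ X) (hy : ∀ w, y.left w ∈ U) :
    lift t y ≫ α = lift t y ≫ β := by
  refine eq_of_charts α β U hU (fun V hV => ?_) t y hy
  letI := algOf T V
  letI := algOf X U
  let O := X.left.presheaf.stalk x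
  let m := IsLocalRing.maximalIdeal O
  let c : ∀ n : ℕ, Γ(X.left, U) ⟶ CommRingCat.of (O ⧸ m ^ n) := fun n =>
    X.left.presheaf.germ U x hxU ≫ CommRingCat.ofHom (Ideal.Quotient.mk (m ^ n))
  letI algC : ∀ n : ℕ, Algebra k (O ⧸ m ^ n) := fun n =>
    ((c n).hom.comp (algebraMap k Γ(X.left, U))).toAlgebra
  let cA : ∀ n : ℕ, Γ(X.left, U) →ₐ[k] O ⧸ m ^ n := fun n =>
    { (c n).hom with commutes' := fun _ => rfl }
  let gC : ∀ n : ℕ, sp (k := k) (Γ(T.left, V) ⊗[k] (O ⧸ m ^ n)) ⟶
      sp (k := k) (Γ(T.left, V) ⊗[k] Γ(X.left, U)) := fun n =>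
    spMap (Algebra.TensorProduct.map (AlgHom.id k _) (cA n))
  refine eq_of_jointly_injective _ _ gC (fun r hr => ?_) fun n => ?_
  · obtain ⟨r, rfl⟩ := exists_el r
    have hr' : ∀ n, Algebra.TensorProduct.map (AlgHom.id k _) (cA n) r = 0 := fun n => by
      refine el_eq_zero (k := k) ?_
      rw [← spMap_el]
      exact hr n
    rw [eq_zero_of_map_tmul (fun n => (cA n).toLinearMap) ?_ r fun n => ?_]
    · exact map_zero _
    · intro a ha
      refine hinj ?_
      rw [map_zero, ← Ideal.mem_bot, ← Ideal.iInf_pow_eq_bot_of_isLocalRing _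
        (IsLocalRing.maximalIdeal.isMaximal O).ne_top, Ideal.mem_iInf]
      exact fun n => Ideal.Quotient.eq_zero_iff_mem.mp (ha n)
    · refine Eq.trans ?_ (hr' n)
      clear hr hr'
      induction r using TensorProduct.induction_on with
      | zero => simp
      | tmul b a => simp
      | add a b ha hb => simp only [map_add, ha, hb]
  · have hC : Spec.map (c n) ≫ hU.fromSpec =
        Spec.map (CommRingCat.ofHom (Ideal.Quotient.mk (m ^ n))) ≫ X.left.fromSpecStalk x := by
      rw [Spec.map_comp, Category.assoc]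
      congr 1
      rw [← hU.fromSpecStalk_eq_fromSpecStalk hxU]
      rfl
    let ιC : sp (k := k) (O ⧸ m ^ n) ⟶ thick X x n := Over.homMk (𝟙 _) (by
      show 𝟙 _ ≫ (_ ≫ _) ≫ X.hom = Spec.map _
      rw [Category.id_comp, ← hC, Category.assoc]
      show Spec.map (c n) ≫ hU.fromSpec ≫ X.hom =
        Spec.map (CommRingCat.ofHom (algebraMap k Γ(X.left, U)) ≫ c n)
      rw [Spec.map_comp (CommRingCat.ofHom (algebraMap k Γ(X.left, U))) (c n),
        show hU.fromSpec ≫ X.hom = _ from Over.w (chart X U hU)]
      rfl)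
    have hιC : spMap (cA n) ≫ chart X U hU = ιC ≫ thickι X x n := by
      refine Over.OverMorphism.ext ?_
      show Spec.map (c n) ≫ hU.fromSpec = 𝟙 _ ≫ _
      rw [Category.id_comp]
      exact hC
    have e : gC n ≫ chart₂ T X V hV U hU =
        CartesianMonoidalCategory.lift (spMap Algebra.TensorProduct.includeLeft ≫ chart T V hV)
          (spMap Algebra.TensorProduct.includeRight ≫ ιC) ≫ (T ◁ thickι X x n) := by
      rw [lift_whiskerLeft, chart₂, comp_lift, Category.assoc, ← hιC, ← Category.assoc, ← Category.assoc,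
        ← Category.assoc]
      congr 2
      · refine Over.OverMorphism.ext ?_
        show Spec.map _ ≫ Spec.map _ = Spec.map _
        rw [← Spec.map_comp]
        congr 1
        ext b
        simp
      · refine Over.OverMorphism.ext ?_
        show Spec.map _ ≫ Spec.map _ = Spec.map _ ≫ Spec.map _
        rw [← Spec.map_comp, ← Spec.map_comp]
        congr 1
    rw [reassoc_of% e, reassoc_of% e, h n]

/-- Two maps agreeing on the thickenings of a point of an integral scheme agree. -/
theorem eq_of_thick_integral [IsLocallyNoetherian X.left] [IsIntegral X.left] (α β : T ⊗ X ⟶ Y) (x : X.left)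
    (h : ∀ n, (T ◁ thickι X x n) ≫ α = (T ◁ thickι X x n) ≫ β) : α = β := by
  obtain ⟨U, hU, hxU, -⟩ := exists_isAffineOpen_mem_and_subset (X := X.left) (x := x) (U := ⊤) trivial
  have hinjU : Function.Injective (X.left.presheaf.germ U x hxU) := germ_injective_of_isIntegral _ x hxU
  have hnhd := @eq_of_thick_nhd _ _ _ _ _ _ _ α β x U hU hxU hinjU h
  refine Over.OverMorphism.ext (Scheme.hom_ext_of_forall _ _ fun p => ?_)
  obtain ⟨W, hW, hpW, -⟩ := exists_isAffineOpen_mem_and_subset (X := X.left) (x := (snd T X).left p)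
    (U := ⊤) trivial
  refine ⟨(snd T X).left ⁻¹ᵁ W, hpW, ?_⟩
  let T' : Over (Spec (CommRingCat.of k)) := Over.mk (((snd T X).left ⁻¹ᵁ W).ι ≫ (T ⊗ X).hom)
  let i : T' ⟶ T ⊗ X := Over.homMk ((snd T X).left ⁻¹ᵁ W).ι rfl
  suffices e : i ≫ α = i ≫ β from congrArg CommaMorphism.left e
  rw [show i = lift (i ≫ fst T X) (i ≫ snd T X) by rw [← comp_lift, lift_fst_snd, Category.comp_id]]
  refine eq_of_charts α β W hW (fun V hV => ?_) _ _ (fun w => w.2)
  -- a nonempty affine open inside `U ⊓ W`
  obtain ⟨O', hO', hηO, hle⟩ := exists_isAffineOpen_mem_and_subset (X := X.left) (x := genericPoint X.left)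
    (U := U ⊓ W) ⟨((genericPoint_spec X.left).mem_open_set_iff U.isOpen).mpr ⟨x, trivial, hxU⟩,
      ((genericPoint_spec X.left).mem_open_set_iff W.isOpen).mpr ⟨_, trivial, hpW⟩⟩
  letI := algOf T V
  letI := algOf X W
  letI := algOf X O'
  have hOW : O' ≤ W := fun z hz => (hle hz).2
  let res : Γ(X.left, W) →ₐ[k] Γ(X.left, O') :=
    { (X.left.presheaf.map (homOfLE hOW).op).hom with
      commutes' := fun c => by
        show ((Scheme.ΓSpecIso (CommRingCat.of k)).inv ≫ X.hom.appLE ⊤ W le_top ≫
          X.left.presheaf.map (homOfLE hOW).op) c =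
          ((Scheme.ΓSpecIso (CommRingCat.of k)).inv ≫ X.hom.appLE ⊤ O' le_top) c
        rw [Scheme.Hom.appLE_map] }
  haveI : Nonempty O' := ⟨⟨_, hηO⟩⟩
  refine eq_of_jointly_injective _ _ (fun _ : Unit => spMap (Algebra.TensorProduct.map (AlgHom.id k _) res))
    (fun r hr => ?_) fun _ => ?_
  · obtain ⟨r, rfl⟩ := exists_el r
    have hr' : Algebra.TensorProduct.map (AlgHom.id k _) res r = 0 := by
      refine el_eq_zero (k := k) ?_
      rw [← spMap_el]
      exact hr ()
    rw [eq_zero_of_map_tmul (fun _ : Unit => res.toLinearMap) ?_ r fun _ => ?_]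
    · exact map_zero _
    · intro a ha
      exact map_injective_of_isIntegral X.left (homOfLE hOW) ((ha ()).trans (map_zero _).symm)
    · refine Eq.trans ?_ hr'
      clear hr hr'
      induction r using TensorProduct.induction_on with
      | zero => simp
      | tmul b a => simp
      | add a b ha hb => simp only [map_add, ha, hb]
  · have e : spMap (Algebra.TensorProduct.map (AlgHom.id k _) res) ≫ chart₂ T X V hV W hW =
        CartesianMonoidalCategory.lift (spMap Algebra.TensorProduct.includeLeft ≫ chart T V hV)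
          (spMap Algebra.TensorProduct.includeRight ≫ chart X O' hO') := by
      have hres : spMap res ≫ chart X W hW = chart X O' hO' :=
        Over.OverMorphism.ext (IsAffineOpen.map_fromSpec hW hO' (homOfLE hOW).op)
      rw [← hres, chart₂, comp_lift, ← Category.assoc, ← Category.assoc, ← Category.assoc]
      congr 2
      · refine Over.OverMorphism.ext ?_
        show Spec.map _ ≫ Spec.map _ = Spec.map _
        rw [← Spec.map_comp]
        congr 1
        ext b
        simp
      · refine Over.OverMorphism.ext ?_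
        show Spec.map _ ≫ Spec.map _ = Spec.map _ ≫ Spec.map _
        rw [← Spec.map_comp, ← Spec.map_comp]
        congr 1
    rw [reassoc_of% e, reassoc_of% e]
    refine hnhd _ _ fun w => ?_
    rw [Over.comp_left, Scheme.Hom.comp_apply]
    refine (hle (?_ : (chart X O' hO').left ((spMap Algebra.TensorProduct.includeRight :
        sp (k := k) (Γ(T.left, V) ⊗[k] Γ(X.left, O')) ⟶ _).left w) ∈ O')).1
    rw [← SetLike.mem_coe, ← hO'.range_fromSpec]
    exact ⟨_, rfl⟩

end Groth.Agent.AffGrp19
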