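import Groth.Agent.Lib.AffGrp19.Main
import Groth.Agent.Lib.AffGrp19.Thick

/-!
# Groups acting with a fixed point: the image of the group in an effective quotient is affine

`isAffine_of_fixedPt`: let `G` act on `X` fixing a rational point `x` and let `q : G → Q` be a flat
surjective homomorphism such that elements acting trivially on all thickenings of `x` die in `Q`, and
elements killed by `q` act trivially. Then `Q` is affine.
-/

set_option autoImplicit false
set_option linter.style.haveILetI false
set_option backward.isDefEq.respectTransparency.types false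
universe u

open CategoryTheory Limits MonoidalCategory CartesianMonoidalCategory MonObj AlgebraicGeometry
  TopologicalSpace Opposite

noncomputable section

namespace Groth.Agent.AffGrp19

variable {k : Type u} [Field k] {G X Q : Over (Spec (CommRingCat.of k))} [GrpObj G] [GrpObj Q]

/-- Points killed by a homomorphism. -/
theorem comp_eq_comp_iff {T : Over (Spec (CommRingCat.of k))} (q : G ⟶ Q) [IsMonHom q] (g g' : T ⟶ G) :
    g ≫ q = g' ≫ q ↔ (g'⁻¹ * g) ≫ q = 1 := by
  rw [MonObj.mul_comp, GrpObj.inv_comp, inv_mul_eq_one, eq_comm]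

/-- Points of `G` dying in the affinization of `Q` act trivially on the thickenings of a fixed point. -/
theorem act_thick [LocallyOfFiniteType G.hom] [QuasiCompact G.hom] [LocallyOfFiniteType Q.hom]
    [QuasiCompact Q.hom] [QuasiSeparated Q.hom] (a : AlgGrp.Action G X)
    (P : 𝟙_ (Over (Spec (CommRingCat.of k))) ⟶ X) (hP : a.IsFixedPt P)
    (q : G ⟶ Q) [IsMonHom q] [Flat q.left] [Surjective q.left]
    (h2 : ∀ (T : Over (Spec (CommRingCat.of k))) (g : T ⟶ G) (y : T ⟶ X), g ≫ q = 1 →
      CartesianMonoidalCategory.lift g y ≫ a.act = y)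
    {T : Over (Spec (CommRingCat.of k))} (g : T ⟶ G) (hg : g ≫ q ≫ toAff Q = 1) (n : ℕ) :
    (T ◁ thickι X (P.left (IsLocalRing.closedPoint k)) n) ≫
        CartesianMonoidalCategory.lift (fst T X ≫ g) (snd T X) ≫ a.act =
      (T ◁ thickι X (P.left (IsLocalRing.closedPoint k)) n) ≫ snd T X := by
  set x := P.left (IsLocalRing.closedPoint k) with hx
  haveI : QuasiCompact q.left := AlgGrpBasic19.quasiCompact_left q
  obtain ⟨U, hU, hxU, -⟩ := exists_isAffineOpen_mem_and_subset (X := X.left) (x := x) (U := ⊤) trivial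
  let U' : Over (Spec (CommRingCat.of k)) := Over.mk (U.ι ≫ X.hom)
  let iU : U' ⟶ X := Over.homMk U.ι rfl
  haveI : IsAffine U'.left := hU
  -- everything over the fixed point goes to the fixed point
  have hfib : ∀ p : (G ⊗ X).left, (snd G X).left p = x → a.act.left p = x := by
    intro p hp
    obtain ⟨z, hz, -⟩ := Scheme.Pullback.exists_preimage_pullback (f := (snd G X).left) (g := P.left) p
      (IsLocalRing.closedPoint k) hp
    have hpb := GITQuot.isPullback_whiskerLeft P G
    have hp' : (G ◁ P).left (hpb.isoPullback.inv z) = p := by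
      rw [← Scheme.Hom.comp_apply, hpb.isoPullback_inv_fst]; exact hz
    rw [← hp', ← Scheme.Hom.comp_apply, ← Over.comp_left]
    have : (G ◁ P) ≫ a.act = toUnit _ ≫ P := by
      have := hP (G ⊗ 𝟙_ _) (fst G _)
      rw [show G ◁ P = lift (fst G _) (toUnit _ ≫ P) from by
        ext1
        · simp
        · rw [whiskerLeft_snd, lift_snd]; congr 1; exact toUnit_unique _ _]
      exact this
    rw [this, Over.comp_left, Scheme.Hom.comp_apply, hx]
    exact congrArg _ (Subsingleton.elim (α := PrimeSpectrum k) _ _)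
  -- factor the restricted action through `U` and descend it to `Q`
  have hθ : ∀ n, ∃ θ : aff Q ⊗ thick X x n ⟶ U',
      (q ▷ thick X x n) ≫ (toAff Q ▷ thick X x n) ≫ θ ≫ iU = (G ◁ thickι X x n) ≫ a.act := by
    intro n
    have hr : Set.range ((G ◁ thickι X x n) ≫ a.act).left ⊆ (U : Set X.left) := by
      rintro _ ⟨w, rfl⟩
      show ((G ◁ thickι X x n) ≫ a.act).left w ∈ U
      rw [Over.comp_left, Scheme.Hom.comp_apply, hfib _ ?_]
      · exact hxU
      · rw [← Scheme.Hom.comp_apply, ← Over.comp_left, whiskerLeft_snd, Over.comp_left,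
          Scheme.Hom.comp_apply, thickι_apply]
    let ψ : G ⊗ thick X x n ⟶ U' := Over.homMk
      (IsOpenImmersion.lift U.ι ((G ◁ thickι X x n) ≫ a.act).left (by rwa [Scheme.Opens.range_ι]))
      (by show _ ≫ U.ι ≫ X.hom = _
          rw [IsOpenImmersion.lift_fac_assoc]; exact Over.w _)
    have hψ : ψ ≫ iU = (G ◁ thickι X x n) ≫ a.act :=
      Over.OverMorphism.ext (IsOpenImmersion.lift_fac U.ι _ _)
    haveI : Mono iU.left := inferInstanceAs (Mono U.ι)
    haveI : Mono iU := Over.mono_of_mono_left iU
    haveI : Flat (q ▷ thick X x n).left :=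
      MorphismProperty.of_isPullback (GITQuot.isPullback_whiskerRight q _).flip ‹Flat q.left›
    haveI : Surjective (q ▷ thick X x n).left :=
      MorphismProperty.of_isPullback (GITQuot.isPullback_whiskerRight q _).flip ‹Surjective q.left›
    haveI : QuasiCompact (q ▷ thick X x n).left :=
      MorphismProperty.of_isPullback (GITQuot.isPullback_whiskerRight q _).flip ‹QuasiCompact q.left›
    obtain ⟨φ, hφ⟩ := AlgGrpBasic19.exists_desc (q ▷ thick X x n) ψ fun W u v huv => by
      rw [← cancel_mono iU, Category.assoc, Category.assoc, hψ]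
      obtain ⟨g, z, rfl⟩ : ∃ g z, u = lift g z := ⟨u ≫ fst _ _, u ≫ snd _ _, by ext1 <;> simp⟩
      obtain ⟨g', z', rfl⟩ : ∃ g' z', v = lift g' z' := ⟨v ≫ fst _ _, v ≫ snd _ _, by ext1 <;> simp⟩
      rw [lift_whiskerRight, lift_whiskerRight] at huv
      have hg := congrArg (· ≫ fst _ _) huv
      have hz := congrArg (· ≫ snd _ _) huv
      simp only [lift_fst, lift_snd] at hg hz
      subst hz
      rw [lift_whiskerLeft_assoc, lift_whiskerLeft_assoc]
      conv_lhs => rw [show g = g' * (g'⁻¹ * g) by rw [mul_inv_cancel_left]]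
      rw [AlgGrpBasic19.act_mul, h2 W _ _ ((comp_eq_comp_iff q g g').mp hg)]
    obtain ⟨θ, hθ⟩ := ((good_toAff Q).whiskerRight (thick X x n)).exists_desc φ
    exact ⟨θ, by rw [reassoc_of% hθ, reassoc_of% hφ, hψ]⟩
  choose θ hθ using hθ
  have key : ∀ g : T ⟶ G, (g ▷ thick X x n) ≫ (G ◁ thickι X x n) ≫ a.act =
      (T ◁ thickι X x n) ≫ CartesianMonoidalCategory.lift (fst T X ≫ g) (snd T X) ≫ a.act := by
    intro g
    rw [← Category.assoc, ← Category.assoc]
    congr 1
    ext1 <;> simp
  rw [← key, ← hθ, ← comp_whiskerRight_assoc, ← comp_whiskerRight_assoc, Category.assoc, hg,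
    ← MonObj.one_comp (X := T) (toAff Q), ← MonObj.one_comp (X := T) q,
    comp_whiskerRight_assoc, comp_whiskerRight_assoc, hθ, key, MonObj.comp_one,
    AlgGrpBasic19.act_one]

/-- The fixed-point criterion. -/
theorem isAffine_of_fixedPt [LocallyOfFiniteType G.hom] [QuasiCompact G.hom] [LocallyOfFiniteType Q.hom]
    [QuasiCompact Q.hom] (a : AlgGrp.Action G X)
    (P : 𝟙_ (Over (Spec (CommRingCat.of k))) ⟶ X) (hP : a.IsFixedPt P)
    (q : G ⟶ Q) [IsMonHom q] [Flat q.left] [Surjective q.left]
    (h1 : ∀ (T : Over (Spec (CommRingCat.of k))) (g : T ⟶ G),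
      (∀ n, (T ◁ thickι X (P.left (IsLocalRing.closedPoint k)) n) ≫
          CartesianMonoidalCategory.lift (fst T X ≫ g) (snd T X) ≫ a.act =
        (T ◁ thickι X (P.left (IsLocalRing.closedPoint k)) n) ≫ snd T X) → g ≫ q = 1)
    (h2 : ∀ (T : Over (Spec (CommRingCat.of k))) (g : T ⟶ G) (y : T ⟶ X), g ≫ q = 1 →
      CartesianMonoidalCategory.lift g y ≫ a.act = y) :
    IsAffine Q.left := by
  haveI : QuasiCompact q.left := AlgGrpBasic19.quasiCompact_left q
  haveI : QuasiSeparated Q.hom := AlgGrpBasic19.quasiSeparatedSpace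
  -- the affinization of `Q` is a monomorphism
  haveI : Mono (toAff Q) := ⟨fun {T} u v huv => by
    have hh : (v⁻¹ * u) ≫ toAff Q = 1 := (comp_eq_comp_iff (toAff Q) u v).mp huv
    refine (inv_mul_eq_one.mp ?_).symm
    set h := v⁻¹ * u
    let T₁ : Over (Spec (CommRingCat.of k)) := Over.mk (pullback.fst h.left q.left ≫ T.hom)
    let p₁ : T₁ ⟶ T := Over.homMk (pullback.fst h.left q.left) rfl
    let p₂ : T₁ ⟶ G := Over.homMk (pullback.snd h.left q.left) (by
      show _ = pullback.fst h.left q.left ≫ T.hom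
      rw [← Over.w q, ← pullback.condition_assoc, Over.w h])
    have e : p₁ ≫ h = p₂ ≫ q := Over.OverMorphism.ext pullback.condition
    haveI : Flat p₁.left := inferInstanceAs (Flat (pullback.fst h.left q.left))
    haveI : Surjective p₁.left := inferInstanceAs (Surjective (pullback.fst h.left q.left))
    haveI : QuasiCompact p₁.left := inferInstanceAs (QuasiCompact (pullback.fst h.left q.left))
    haveI := AlgGrpBasic19.epi_of_cover p₁
    rw [← cancel_epi p₁, e, MonObj.comp_one]
    refine h1 T₁ p₂ fun n => act_thick a P hP q h2 p₂ ?_ n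
    rw [← reassoc_of% e, hh, MonObj.comp_one]⟩
  exact isAffine_of_mono_toAff Q

end Groth.Agent.AffGrp19
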