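import Groth.Prelude.Def_Red2
import Groth.Agent.Lib.AffGrp19.Fixed
import Groth.Agent.Lib.AbRigid.GrpTop
import Groth.Agent.Lib.AbRigid.Connected
import Mathlib.AlgebraicGeometry.SpreadingOut

/-!
# A connected group modulo its centre is affine
-/

set_option autoImplicit false
set_option linter.style.haveILetI false
set_option backward.isDefEq.respectTransparency.types false
universe u

open CategoryTheory Limits MonoidalCategory CartesianMonoidalCategory MonObj AlgebraicGeometry
  TopologicalSpace Opposite

noncomputable section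

namespace Groth.Agent.AffGrp19

variable {k : Type u} [Field k]

/-- Left translations. -/
def regAction (G : Over (Spec (CommRingCat.of k))) [GrpObj G] : AlgGrp.Action G G where
  act := μ[G]
  one_act := MonObj.one_mul G
  mul_act := MonObj.mul_assoc G

/-- Conjugation. -/
def conjAction (G : Over (Spec (CommRingCat.of k))) [GrpObj G] : AlgGrp.Action G G where
  act := fst G G * snd G G * (fst G G)⁻¹
  one_act := by
    rw [MonObj.comp_mul, MonObj.comp_mul, GrpObj.comp_inv, whiskerRight_fst, whiskerRight_snd,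
      MonObj.one_eq_one, MonObj.comp_one, _root_.one_mul, inv_one, _root_.mul_one]
    exact (leftUnitor_hom G).symm
  mul_act := by
    have e : (fst (G ⊗ G) G ≫ μ[G]) = (fst (G ⊗ G) G ≫ fst G G) * (fst (G ⊗ G) G ≫ snd G G) := by
      rw [← MonObj.comp_mul, ← MonObj.mul_eq_mul]
    rw [MonObj.comp_mul, MonObj.comp_mul, GrpObj.comp_inv, whiskerRight_fst, whiskerRight_snd, e]
    simp only [MonObj.comp_mul, GrpObj.comp_inv, Category.assoc, whiskerLeft_fst, whiskerLeft_snd,
      associator_hom_fst, associator_hom_snd_fst, associator_hom_snd_snd]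
    group

theorem lift_conj {G T : Over (Spec (CommRingCat.of k))} [GrpObj G] (g y : T ⟶ G) :
    CartesianMonoidalCategory.lift g y ≫ (conjAction G).act = g * y * g⁻¹ := by
  show CartesianMonoidalCategory.lift g y ≫ (fst G G * snd G G * (fst G G)⁻¹) = _
  rw [MonObj.comp_mul, MonObj.comp_mul, GrpObj.comp_inv, lift_fst, lift_snd]

theorem range_of_isPullback {P A B C : Scheme.{u}} {f : P ⟶ A} {g : P ⟶ B} {h : A ⟶ C} {i : B ⟶ C}
    (hp : IsPullback f g h i) : Set.range f = h ⁻¹' Set.range i := by
  rw [← Scheme.Pullback.range_fst, ← hp.isoPullback_hom_fst]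
  exact Set.ext fun a => ⟨fun ⟨w, hw⟩ => ⟨hp.isoPullback.hom w, by rw [← hw]; rfl⟩,
    fun ⟨w, hw⟩ => ⟨hp.isoPullback.inv w, by
      rw [← hw, ← Scheme.Hom.comp_apply, Iso.inv_hom_id_assoc]⟩⟩

/-- The quotient of a connected group by its centre is affine. -/
theorem isAffine_of_centre (G : Over (Spec (CommRingCat.of k))) [GrpObj G] [LocallyOfFiniteType G.hom]
    [QuasiCompact G.hom] [ConnectedSpace ↥G.left]
    (Z : Over (Spec (CommRingCat.of k))) [GrpObj Z] (j : Z ⟶ G) (hZ : Red.IsCentre j)
    (Q : Over (Spec (CommRingCat.of k))) [GrpObj Q] [LocallyOfFiniteType Q.hom] [QuasiCompact Q.hom]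
    (q : G ⟶ Q) [IsMonHom q] [Surjective q.left] [Flat q.left] (hker : AlgGrp.IsKernel j q) :
    IsAffine Q.left := by
  obtain ⟨-, -, hpt⟩ := hZ
  haveI : IsSeparated G.hom := AbRigid.isSeparated_of_grpObj G
  haveI : IsLocallyNoetherian G.left := LocallyOfFiniteType.isLocallyNoetherian G.hom
  haveI : GeometricallyIrreducible G.hom := AbRigid.geometricallyIrreducible_of_connected G
  haveI : IrreducibleSpace G.left := GeometricallyIrreducible.irreducibleSpace_of_subsingleton G.hom
  refine isAffine_of_fixedPt (conjAction G) η[G] (fun T g => ?_) q (fun T g h => ?_) fun T g y hg => ?_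
  · rw [lift_conj, MonObj.one_eq_one, MonObj.comp_one, _root_.mul_one, mul_inv_cancel]
  · set e := η[G].left (IsLocalRing.closedPoint k)
    obtain ⟨U, heU, hU, hinj⟩ := G.left.exists_germ_injective e
    let U' : Over (Spec (CommRingCat.of k)) := Over.mk (U.ι ≫ G.hom)
    let iU : U' ⟶ G := Over.homMk U.ι rfl
    haveI : IsAffine U'.left := hU
    -- `g` commutes with the points of `U`
    have hcomm : ∀ {T' : Over (Spec (CommRingCat.of k))} (t : T' ⟶ T) (y : T' ⟶ U'),
        (t ≫ g) * (y ≫ iU) * (t ≫ g)⁻¹ = y ≫ iU := fun {T'} t y => by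
      have hy : ∀ w, (y ≫ iU).left w ∈ U := fun w => (y.left w).2
      have := eq_of_thick_nhd (CartesianMonoidalCategory.lift (fst T G ≫ g) (snd T G) ≫ (conjAction G).act)
        (snd T G) e U hU heU hinj h t (y ≫ iU) hy
      rwa [comp_lift_assoc, lift_fst_assoc, lift_snd, lift_conj] at this
    -- the products of two points of `U` cover `G`
    haveI : Flat μ[G].left :=
      AlgGrpBasic19.act_of_property (regAction G) @Flat (inferInstance : Flat G.hom)
    have hden : Dense (U : Set G.left) := U.isOpen.dense ⟨_, heU⟩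
    let c : U' ⊗ U' ⟶ G := (iU ⊗ₘ iU) ≫ μ[G]
    haveI : IsOpenImmersion (iU ⊗ₘ iU).left := by
      rw [MonoidalCategory.tensorHom_def, Over.comp_left]
      haveI : IsOpenImmersion (iU ▷ U').left :=
        MorphismProperty.of_isPullback (GITQuot.isPullback_whiskerRight iU U').flip
          (inferInstanceAs (IsOpenImmersion U.ι))
      haveI : IsOpenImmersion (G ◁ iU).left :=
        MorphismProperty.of_isPullback (GITQuot.isPullback_whiskerLeft iU G).flip
          (inferInstanceAs (IsOpenImmersion U.ι))
      infer_instance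
    haveI : Flat c.left := inferInstanceAs (Flat ((iU ⊗ₘ iU).left ≫ μ[G].left))
    haveI : Surjective c.left := ⟨fun z => by
      obtain ⟨p, hp1, hp2, hp3⟩ := AbRigid.exists_mul_eq U U hden ⟨_, heU⟩ z
      have hp : p ∈ Set.range (iU ⊗ₘ iU).left := by
        obtain ⟨a, ha⟩ : p ∈ Set.range (G ◁ iU).left := by
          rw [range_of_isPullback (GITQuot.isPullback_whiskerLeft iU G)]
          show (snd G G).left p ∈ Set.range U.ι
          rwa [Scheme.Opens.range_ι]
        obtain ⟨b, hb⟩ : a ∈ Set.range (iU ▷ U').left := by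
          rw [range_of_isPullback (GITQuot.isPullback_whiskerRight iU U')]
          show (fst G U').left a ∈ Set.range U.ι
          rw [Scheme.Opens.range_ι, ← whiskerLeft_fst G iU, Over.comp_left, Scheme.Hom.comp_apply, ha]
          exact hp1
        refine ⟨b, ?_⟩
        rw [MonoidalCategory.tensorHom_def, Over.comp_left, Scheme.Hom.comp_apply, hb, ha]
      obtain ⟨w, hw⟩ := hp
      exact ⟨w, by rw [Over.comp_left, Scheme.Hom.comp_apply, hw, hp3]⟩⟩
    haveI : CompactSpace G.left := QuasiCompact.compactSpace_of_compactSpace G.hom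
    haveI : QuasiCompact U'.hom := inferInstanceAs (QuasiCompact (U.ι ≫ G.hom))
    haveI : QuasiCompact (U' ⊗ U').hom := inferInstanceAs (QuasiCompact (pullback.fst _ _ ≫ U'.hom))
    haveI : QuasiCompact c.left := AlgGrpBasic19.quasiCompact_left c
    haveI : Flat (T ◁ c).left :=
      MorphismProperty.of_isPullback (GITQuot.isPullback_whiskerLeft c T).flip ‹Flat c.left›
    haveI : Surjective (T ◁ c).left :=
      MorphismProperty.of_isPullback (GITQuot.isPullback_whiskerLeft c T).flip ‹Surjective c.left›
    haveI : QuasiCompact (T ◁ c).left :=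
      MorphismProperty.of_isPullback (GITQuot.isPullback_whiskerLeft c T).flip ‹QuasiCompact c.left›
    haveI := AlgGrpBasic19.epi_of_cover (T ◁ c)
    -- hence with all points
    have hall : CartesianMonoidalCategory.lift (fst T G ≫ g) (snd T G) ≫ (conjAction G).act = snd T G := by
      rw [← cancel_epi (T ◁ c), comp_lift_assoc, lift_conj, whiskerLeft_fst_assoc, whiskerLeft_snd]
      have hc : c = (fst U' U' ≫ iU) * (snd U' U' ≫ iU) := by
        show (iU ⊗ₘ iU) ≫ μ[G] = _
        rw [Hom.mul_def]
        congr 1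
      have h1 := hcomm (fst T (U' ⊗ U')) (snd T _ ≫ fst U' U')
      have h2 := hcomm (fst T (U' ⊗ U')) (snd T _ ≫ snd U' U')
      rw [hc, MonObj.comp_mul, ← Category.assoc, ← Category.assoc]
      set γ' := fst T (U' ⊗ U') ≫ g
      conv_rhs => rw [← h1, ← h2]
      group
    obtain ⟨z, rfl⟩ := (hpt T g).mpr fun T' t y => by
      have := congrArg (fun f => CartesianMonoidalCategory.lift t y ≫ f) hall
      beta_reduce at this
      rw [comp_lift_assoc, lift_fst_assoc, lift_snd, lift_conj] at this
      rw [Category.comp_id]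
      exact mul_inv_eq_iff_eq_mul.mp this
    rw [Category.assoc, hker.w, MonObj.one_eq_one, MonObj.comp_one, MonObj.comp_one]
  · rw [lift_conj, mul_inv_eq_iff_eq_mul]
    have hw : g ≫ q = toUnit T ≫ η[Q] := by rw [hg, MonObj.one_eq_one, MonObj.comp_one]
    have := (hpt T g).mp ⟨hker.lift g (toUnit T) hw, hker.lift_fst _ _ _⟩ T (𝟙 T) y
    rwa [Category.id_comp, Category.comp_id] at this

end Groth.Agent.AffGrp19
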